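import Groth.Agent.GrpschAbsch.SchDense
import Mathlib.AlgebraicGeometry.Morphisms.SchemeTheoreticallyDominant
import Mathlib.AlgebraicGeometry.Restrict
import Mathlib.AlgebraicGeometry.Noetherian

/-!
# Schematic density and scheme-theoretically dominant open immersions
-/

set_option autoImplicit false
universe u

open CategoryTheory CategoryTheory.Limits AlgebraicGeometry

namespace Groth.Rat20Dense

lemma dense_of_isSchemeTheoreticallyDominant {X : Scheme.{u}} (U : X.Opens) [QuasiCompact U.ι]
    [IsSchemeTheoreticallyDominant U.ι] : CInt.IsSchematicallyDense U := by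
  intro V
  have h := U.ι.app_injective V
  rw [Scheme.Opens.ι_app] at h
  have hV : U.ι ''ᵁ (U.ι ⁻¹ᵁ V) = V ⊓ U := by
    rw [Scheme.Hom.image_preimage_eq_opensRange_inf, Scheme.Opens.opensRange_ι, inf_comm]
  intro a b hab
  refine h ?_
  have := congrArg (X.presheaf.map (eqToHom hV).op).hom hab
  erw [← CommRingCat.comp_apply, ← Functor.map_comp, ← CommRingCat.comp_apply,
    ← Functor.map_comp] at this
  exact this

/-- Schematic density of a retrocompact open is stable under flat base change. -/
lemma dense_preimage_of_flat {X X' : Scheme.{u}} (f : X' ⟶ X) [Flat f] (V : X.Opens)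
    [QuasiCompact V.ι] (hV : CInt.IsSchematicallyDense V) :
    CInt.IsSchematicallyDense (f ⁻¹ᵁ V) := by
  have := Groth.GrpschAbsch.isSchemeTheoreticallyDominant_ι V hV
  have hpb : IsPullback (f ∣_ V) (f ⁻¹ᵁ V).ι V.ι f := isPullback_morphismRestrict f V
  have := IsSchemeTheoreticallyDominant.of_isPullback hpb
  have : QuasiCompact (f ⁻¹ᵁ V).ι := MorphismProperty.of_isPullback hpb ‹QuasiCompact V.ι›
  exact dense_of_isSchemeTheoreticallyDominant _

end Groth.Rat20Dense
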